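import Mathlib
import Groth.Prelude.Def_SGA3

/-!
A sub-Hopf-algebra `B` of a commutative Hopf algebra over a field as a Hopf algebra, with its inclusion.
-/

set_option autoImplicit false
set_option linter.style.haveILetI false
universe u
open scoped TensorProduct
open Algebra.TensorProduct

noncomputable section

namespace Groth.Agent.HopfSub

variable {k : Type u} [Field k] {A : Type u} [CommRing A] [HopfAlgebra k A] (B : Subalgebra k A)

theorem map_injective {M N M' N' : Type u} [CommRing M] [CommRing N] [CommRing M'] [CommRing N']
    [Algebra k M] [Algebra k N] [Algebra k M'] [Algebra k N'] (f : M →ₐ[k] M') (g : N →ₐ[k] N')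
    (hf : Function.Injective f) (hg : Function.Injective g) :
    Function.Injective (Algebra.TensorProduct.map f g) := by
  have h1 : Function.Injective (f.toLinearMap.rTensor N) :=
    Module.Flat.rTensor_preserves_injective_linearMap _ hf
  have h2 : Function.Injective (g.toLinearMap.lTensor M') :=
    Module.Flat.lTensor_preserves_injective_linearMap _ hg
  have h : (Algebra.TensorProduct.map f g).toLinearMap =
      g.toLinearMap.lTensor M' ∘ₗ f.toLinearMap.rTensor N := TensorProduct.ext' fun _ _ => rfl
  intro a b hab
  exact h1 (h2 ((LinearMap.congr_fun h a).symm.trans (hab.trans (LinearMap.congr_fun h b))))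

def ι₂ : ↥B ⊗[k] ↥B →ₐ[k] A ⊗[k] A := Algebra.TensorProduct.map B.val B.val

theorem ι₂_injective : Function.Injective (ι₂ B) :=
  map_injective _ _ Subtype.val_injective Subtype.val_injective

variable {B} (hB : SGA3.IsHopfSubalgebra k A B)

def comulAux : ↥B →ₐ[k] ↥B ⊗[k] ↥B :=
  (AlgEquiv.ofInjective (ι₂ B) (ι₂_injective B)).symm.toAlgHom.comp
    (((Bialgebra.comulAlgHom k A).comp B.val).codRestrict (ι₂ B).range fun b => by
      obtain ⟨x, hx⟩ := hB.1 b b.2
      exact ⟨x, hx⟩)

theorem ι₂_comulAux (b : ↥B) : ι₂ B (comulAux hB b) = Coalgebra.comul (R := k) (b : A) := by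
  change ι₂ B ((AlgEquiv.ofInjective (ι₂ B) (ι₂_injective B)).symm _) = _
  exact congrArg Subtype.val ((AlgEquiv.ofInjective (ι₂ B) (ι₂_injective B)).apply_symm_apply _)

theorem ι₂_comp_comulAux :
    (ι₂ B).comp (comulAux hB) = (Bialgebra.comulAlgHom k A).comp B.val :=
  AlgHom.ext (ι₂_comulAux hB)

def counitAux : ↥B →ₐ[k] k := (Bialgebra.counitAlgHom k A).comp B.val

def antipodeAux : ↥B →ₐ[k] ↥B :=
  ((HopfAlgebra.antipodeAlgHom k A).comp B.val).codRestrict B fun b => hB.2 b b.2

/-- `B` as a bialgebra. -/
@[instance_reducible]
def bialgebra : Bialgebra k ↥B :=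
  Bialgebra.ofAlgHom (comulAux hB) (counitAux (B := B))
    (by
      refine AlgHom.ext fun b => map_injective B.val (ι₂ B) Subtype.val_injective (ι₂_injective B) ?_
      have e1 : (Algebra.TensorProduct.map B.val (ι₂ B)).comp
          (Algebra.TensorProduct.assoc k k k ↥B ↥B ↥B).toAlgHom =
          (Algebra.TensorProduct.assoc k k k A A A).toAlgHom.comp
            (Algebra.TensorProduct.map (ι₂ B) B.val) := by ext <;> rfl
      have e2 : (Algebra.TensorProduct.map (ι₂ B) B.val).comp
          (Algebra.TensorProduct.map (comulAux hB) (.id k ↥B)) =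
          (Algebra.TensorProduct.map (Bialgebra.comulAlgHom k A) (.id k A)).comp (ι₂ B) := by
        rw [ι₂, ← map_comp, ← map_comp]
        exact congrArg (fun f => Algebra.TensorProduct.map f _) (ι₂_comp_comulAux hB)
      have e3 : (Algebra.TensorProduct.map B.val (ι₂ B)).comp
          (Algebra.TensorProduct.map (.id k ↥B) (comulAux hB)) =
          (Algebra.TensorProduct.map (.id k A) (Bialgebra.comulAlgHom k A)).comp (ι₂ B) := by
        rw [ι₂, ← map_comp, ← map_comp]
        exact congrArg (fun f => Algebra.TensorProduct.map _ f) (ι₂_comp_comulAux hB)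
      simp only [AlgHom.comp_apply]
      rw [← AlgHom.comp_apply (Algebra.TensorProduct.map B.val (ι₂ B)), e1, AlgHom.comp_apply,
        ← AlgHom.comp_apply (Algebra.TensorProduct.map (ι₂ B) B.val), e2, AlgHom.comp_apply,
        ← AlgHom.comp_apply (Algebra.TensorProduct.map B.val (ι₂ B)), e3, AlgHom.comp_apply,
        ι₂_comulAux]
      exact Coalgebra.coassoc_apply (b : A))
    (by
      refine AlgHom.ext fun b => map_injective (AlgHom.id k k) B.val (fun _ _ h => h)
        Subtype.val_injective ?_
      have e1 : (Algebra.TensorProduct.map (AlgHom.id k k) B.val).comp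
          (Algebra.TensorProduct.map (counitAux (B := B)) (.id k ↥B)) =
          (Algebra.TensorProduct.map (Bialgebra.counitAlgHom k A) (.id k A)).comp (ι₂ B) := by
        rw [ι₂, ← map_comp, ← map_comp]
        rfl
      simp only [AlgHom.comp_apply]
      rw [← AlgHom.comp_apply (Algebra.TensorProduct.map (AlgHom.id k k) B.val), e1,
        AlgHom.comp_apply, ι₂_comulAux]
      exact (Coalgebra.rTensor_counit_comul (b : A)).trans rfl)
    (by
      refine AlgHom.ext fun b => map_injective B.val (AlgHom.id k k) Subtype.val_injective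
        (fun _ _ h => h) ?_
      have e1 : (Algebra.TensorProduct.map B.val (AlgHom.id k k)).comp
          (Algebra.TensorProduct.map (.id k ↥B) (counitAux (B := B))) =
          (Algebra.TensorProduct.map (.id k A) (Bialgebra.counitAlgHom k A)).comp (ι₂ B) := by
        rw [ι₂, ← map_comp, ← map_comp]
        rfl
      simp only [AlgHom.comp_apply]
      rw [← AlgHom.comp_apply (Algebra.TensorProduct.map B.val (AlgHom.id k k)), e1,
        AlgHom.comp_apply, ι₂_comulAux]
      exact (Coalgebra.lTensor_counit_comul (b : A)).trans rfl)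

/-- `B` as a Hopf algebra. -/
@[instance_reducible]
def hopfAlgebra : HopfAlgebra k ↥B :=
  letI := bialgebra hB
  HopfAlgebra.ofAlgHom (antipodeAux hB)
    (by
      refine AlgHom.ext fun b => Subtype.val_injective ?_
      have e : B.val.comp (Algebra.TensorProduct.lift (antipodeAux hB) (.id k ↥B) fun _ => Commute.all _) =
          (Algebra.TensorProduct.lift (HopfAlgebra.antipodeAlgHom k A) (.id k A)
            fun _ => Commute.all _).comp (ι₂ B) := by
        refine Algebra.TensorProduct.ext' fun x y => ?_
        simp only [AlgHom.comp_apply, ι₂, map_tmul]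
        erw [Algebra.TensorProduct.lift_tmul, Algebra.TensorProduct.lift_tmul]
        rfl
      have h1 := AlgHom.congr_fun e (comulAux hB b)
      simp only [AlgHom.comp_apply] at h1 ⊢
      refine h1.trans ?_
      rw [ι₂_comulAux]
      have h2 : ∀ x : A ⊗[k] A, Algebra.TensorProduct.lift (HopfAlgebra.antipodeAlgHom k A)
          (.id k A) (fun _ => Commute.all _) x =
          LinearMap.mul' k A (LinearMap.rTensor A (HopfAlgebra.antipode k) x) := fun x => by
        induction x with
        | zero => simp
        | tmul x y =>
          erw [Algebra.TensorProduct.lift_tmul]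
        | add x y hx hy => rw [map_add, map_add, map_add, hx, hy]
      rw [h2]
      exact HopfAlgebra.mul_antipode_rTensor_comul_apply (b : A))
    (by
      refine AlgHom.ext fun b => Subtype.val_injective ?_
      have e : B.val.comp (Algebra.TensorProduct.lift (.id k ↥B) (antipodeAux hB) fun _ _ => Commute.all _ _) =
          (Algebra.TensorProduct.lift (.id k A) (HopfAlgebra.antipodeAlgHom k A)
            fun _ _ => Commute.all _ _).comp (ι₂ B) := by
        refine Algebra.TensorProduct.ext' fun x y => ?_
        simp only [AlgHom.comp_apply, ι₂, map_tmul]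
        erw [Algebra.TensorProduct.lift_tmul, Algebra.TensorProduct.lift_tmul]
        rfl
      have h1 := AlgHom.congr_fun e (comulAux hB b)
      simp only [AlgHom.comp_apply] at h1 ⊢
      refine h1.trans ?_
      rw [ι₂_comulAux]
      have h2 : ∀ x : A ⊗[k] A, Algebra.TensorProduct.lift (.id k A)
          (HopfAlgebra.antipodeAlgHom k A) (fun _ _ => Commute.all _ _) x =
          LinearMap.mul' k A (LinearMap.lTensor A (HopfAlgebra.antipode k) x) := fun x => by
        induction x with
        | zero => simp
        | tmul x y =>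
          erw [Algebra.TensorProduct.lift_tmul]
        | add x y hx hy => rw [map_add, map_add, map_add, hx, hy]
      rw [h2]
      exact HopfAlgebra.mul_antipode_lTensor_comul_apply (b : A))

/-- The inclusion as a bialgebra map. -/
def incl : letI := hopfAlgebra hB; ↥B →ₐc[k] A :=
  letI := hopfAlgebra hB
  BialgHom.ofAlgHom B.val rfl (AlgHom.ext fun b => ι₂_comulAux hB b)

end Groth.Agent.HopfSub
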