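import Mathlib
import Groth.Prelude.Def_SGA3
import Groth.Agent.HopfSub.Basic

/-!
Translation twist: for an `A`-stable `B`-submodule `M` of `A` and points `x` of `Spec B`, `g` of `Spec A`
with values in `R`, the base changes of `M` along `x * g` and along `x` are isomorphic.
-/

set_option autoImplicit false
set_option linter.style.haveILetI false
universe u
open scoped TensorProduct Coalgebra
open WithConv

noncomputable section

namespace Groth.Agent.HopfSub

variable {k : Type u} [Field k] {A : Type u} [CommRing A] [HopfAlgebra k A]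
  {B : Type u} [CommRing B] [Algebra k B] [Algebra B A] [IsScalarTower k B A]
  (M : Submodule B A)

/-- `M` is stable under the coaction. -/
def Stable : Prop :=
  ∀ m ∈ M, Coalgebra.comul (R := k) m ∈
    LinearMap.range ((M.subtype.restrictScalars k).rTensor A)

variable {M} (hM : Stable (k := k) M)

theorem rT_injective : Function.Injective ((M.subtype.restrictScalars k).rTensor A) :=
  Module.Flat.rTensor_preserves_injective_linearMap _ M.injective_subtype

def rho : ↥M →ₗ[k] ↥M ⊗[k] A :=
  (LinearEquiv.ofInjective ((M.subtype.restrictScalars k).rTensor A) rT_injective).symm.toLinearMap ∘ₗ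
    LinearMap.codRestrict _ (Coalgebra.comul (R := k) ∘ₗ M.subtype.restrictScalars k)
      (fun m => hM m m.2)

theorem rho_spec (m : ↥M) :
    (M.subtype.restrictScalars k).rTensor A (rho hM m) = Coalgebra.comul (R := k) (m : A) :=
  congrArg Subtype.val
    ((LinearEquiv.ofInjective ((M.subtype.restrictScalars k).rTensor A) rT_injective).apply_symm_apply _)

variable {R : Type u} [CommRing R] [Algebra k R]

/-- `1 ⊗ m ↦ Σ g(m₁) ⊗ m₀`. -/
def T (g : A →ₐ[k] R) : R ⊗[k] ↥M →ₗ[R] R ⊗[k] ↥M :=
  LinearMap.liftBaseChange R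
    ((TensorProduct.comm k ↥M R).toLinearMap ∘ₗ g.toLinearMap.lTensor ↥M ∘ₗ rho hM)

/-- The universal point of `Spec A` over `R`, corrected by `g`. -/
def uPt (g : A →ₐ[k] R) : A →ₐ[k] R ⊗[k] A :=
  (toConv (Algebra.TensorProduct.includeRight : A →ₐ[k] R ⊗[k] A) *
    toConv ((Algebra.TensorProduct.includeLeft : R →ₐ[k] R ⊗[k] A).comp g)).ofConv

/-- The ambient translation. -/
def E (g : A →ₐ[k] R) : R ⊗[k] A →ₐ[k] R ⊗[k] A :=
  Algebra.TensorProduct.lift (Algebra.TensorProduct.includeLeft : R →ₐ[k] R ⊗[k] A) (uPt g)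
    (fun _ _ => Commute.all _ _)

theorem E_tmul (g : A →ₐ[k] R) (r : R) (a : A) : E g (r ⊗ₜ a) = (r ⊗ₜ[k] 1) * uPt g a := rfl

theorem uPt_apply (g : A →ₐ[k] R) (a : A) : uPt g a =
    Algebra.TensorProduct.lift (Algebra.TensorProduct.includeRight : A →ₐ[k] R ⊗[k] A)
      ((Algebra.TensorProduct.includeLeft : R →ₐ[k] R ⊗[k] A).comp g)
      (fun _ _ => Commute.all _ _) (Coalgebra.comul (R := k) a) :=
  AlgHom.convMul_apply _ _ a

theorem incl_T_aux (g : A →ₐ[k] R) (z : ↥M ⊗[k] A) :
    (M.subtype.restrictScalars k).lTensor R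
        (TensorProduct.comm k ↥M R (g.toLinearMap.lTensor ↥M z)) =
      Algebra.TensorProduct.lift (Algebra.TensorProduct.includeRight : A →ₐ[k] R ⊗[k] A)
        ((Algebra.TensorProduct.includeLeft : R →ₐ[k] R ⊗[k] A).comp g)
        (fun _ _ => Commute.all _ _) ((M.subtype.restrictScalars k).rTensor A z) := by
  induction z with
  | zero => simp
  | add a b ha hb => simp only [map_add, ha, hb]
  | tmul n a =>
    rw [LinearMap.lTensor_tmul, TensorProduct.comm_tmul, LinearMap.lTensor_tmul,
      LinearMap.rTensor_tmul, Algebra.TensorProduct.lift_tmul]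
    simp [Algebra.TensorProduct.tmul_mul_tmul]

theorem lTensor_smul_eq (r : R) (x : R ⊗[k] ↥M) :
    (M.subtype.restrictScalars k).lTensor R (r • x) =
      (r ⊗ₜ[k] (1 : A)) * (M.subtype.restrictScalars k).lTensor R x := by
  induction x with
  | zero => simp
  | add a b ha hb => simp only [smul_add, map_add, mul_add, ha, hb]
  | tmul s m =>
    rw [TensorProduct.smul_tmul', LinearMap.lTensor_tmul, LinearMap.lTensor_tmul,
      Algebra.TensorProduct.tmul_mul_tmul, _root_.one_mul, smul_eq_mul]

theorem incl_T (g : A →ₐ[k] R) (x : R ⊗[k] ↥M) :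
    (M.subtype.restrictScalars k).lTensor R (T hM g x) =
      E g ((M.subtype.restrictScalars k).lTensor R x) := by
  induction x with
  | zero => simp
  | add x y hx hy => simp only [map_add, hx, hy]
  | tmul r m =>
    rw [T, LinearMap.liftBaseChange_tmul, lTensor_smul_eq, LinearMap.lTensor_tmul, E_tmul]
    refine congrArg _ ?_
    simp only [LinearMap.comp_apply, LinearEquiv.coe_coe]
    rw [incl_T_aux, rho_spec hM m, uPt_apply]
    rfl

theorem E_includeLeft (g : A →ₐ[k] R) :
    (E g).comp (Algebra.TensorProduct.includeLeft : R →ₐ[k] R ⊗[k] A) =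
      (Algebra.TensorProduct.includeLeft : R →ₐ[k] R ⊗[k] A) :=
  Algebra.TensorProduct.lift_comp_includeLeft _ _ (fun _ _ => Commute.all _ _)

theorem E_includeRight (g : A →ₐ[k] R) :
    (E g).comp (Algebra.TensorProduct.includeRight : A →ₐ[k] R ⊗[k] A) = uPt g :=
  Algebra.TensorProduct.lift_comp_includeRight _ _ (fun _ _ => Commute.all _ _)

theorem E_comp (g h : A →ₐ[k] R) : (E g).comp (E h) = E (toConv g * toConv h).ofConv := by
  refine Algebra.TensorProduct.ext ?_ ?_
  · rw [AlgHom.comp_assoc, E_includeLeft, E_includeLeft, E_includeLeft]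
  · show ((E g).comp (E h)).comp Algebra.TensorProduct.includeRight =
      (E _).comp Algebra.TensorProduct.includeRight
    rw [AlgHom.comp_assoc, E_includeRight, E_includeRight, uPt, uPt, AlgHom.comp_convMul_distrib,
      ofConv_toConv, E_includeRight, ← AlgHom.comp_assoc, E_includeLeft,
      AlgHom.comp_convMul_distrib, uPt, ofConv_toConv, ofConv_toConv, toConv_ofConv, toConv_ofConv,
      mul_assoc]

theorem E_one : E (1 : WithConv (A →ₐ[k] R)).ofConv = AlgHom.id k (R ⊗[k] A) := by
  refine Algebra.TensorProduct.ext ?_ ?_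
  · rw [E_includeLeft, AlgHom.id_comp]
  · show (E _).comp Algebra.TensorProduct.includeRight =
      (AlgHom.id k _).comp Algebra.TensorProduct.includeRight
    rw [E_includeRight, AlgHom.id_comp, uPt]
    have : toConv ((Algebra.TensorProduct.includeLeft : R →ₐ[k] R ⊗[k] A).comp
        (1 : WithConv (A →ₐ[k] R)).ofConv) = (1 : WithConv (A →ₐ[k] R ⊗[k] A)) :=
      WithConv.ext (AlgHom.ext fun a => by
        change (Algebra.TensorProduct.includeLeft : R →ₐ[k] R ⊗[k] A)
          (algebraMap k R (Coalgebra.counit a)) = algebraMap k (R ⊗[k] A) (Coalgebra.counit a)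
        exact AlgHom.commutes _ _)
    rw [this, _root_.mul_one, ofConv_toConv]

theorem lT_injective : Function.Injective ((M.subtype.restrictScalars k).lTensor R) :=
  Module.Flat.lTensor_preserves_injective_linearMap _ M.injective_subtype

theorem T_T (g h : WithConv (A →ₐ[k] R)) (hgh : g * h = 1) (x : R ⊗[k] ↥M) :
    T hM g.ofConv (T hM h.ofConv x) = x := by
  apply lT_injective (k := k) (R := R)
  rw [incl_T, incl_T, ← AlgHom.comp_apply, E_comp, toConv_ofConv, toConv_ofConv, hgh, E_one]
  rfl

/-- The inverse point. -/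
def inv' (g : WithConv (A →ₐ[k] R)) : WithConv (A →ₐ[k] R) :=
  toConv (g.ofConv.comp (HopfAlgebra.antipodeAlgHom k A))

theorem inv'_mul (g : WithConv (A →ₐ[k] R)) : inv' g * g = 1 := by
  have h : (toConv (HopfAlgebra.antipodeAlgHom k A) : WithConv (A →ₐ[k] A)) * toConv (.id k A) = 1 :=
    inv_mul_cancel (toConv (AlgHom.id k A))
  have := AlgHom.comp_convMul_distrib g.ofConv (toConv (HopfAlgebra.antipodeAlgHom k A)) (toConv (.id k A))
  rw [h] at this
  simp only [AlgHom.comp_id, toConv_ofConv] at this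
  refine WithConv.ext (this.symm.trans ?_)
  exact AlgHom.ext fun a => AlgHom.commutes _ _

theorem mul_inv' (g : WithConv (A →ₐ[k] R)) : g * inv' g = 1 := by
  have h : (toConv (.id k A) : WithConv (A →ₐ[k] A)) * toConv (HopfAlgebra.antipodeAlgHom k A) = 1 :=
    mul_inv_cancel (toConv (AlgHom.id k A))
  have := AlgHom.comp_convMul_distrib g.ofConv (toConv (.id k A)) (toConv (HopfAlgebra.antipodeAlgHom k A))
  rw [h] at this
  simp only [AlgHom.comp_id, toConv_ofConv] at this
  refine WithConv.ext (this.symm.trans ?_)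
  exact AlgHom.ext fun a => AlgHom.commutes _ _

/-- `T g` as an automorphism. -/
def TEquiv (g : WithConv (A →ₐ[k] R)) : (R ⊗[k] ↥M) ≃ₗ[R] R ⊗[k] ↥M :=
  LinearEquiv.ofLinearMap (T hM g.ofConv) (T hM (inv' g).ofConv)
    (LinearMap.ext fun x => T_T hM g (inv' g) (mul_inv' g) x)
    (LinearMap.ext fun x => T_T hM (inv' g) g (inv'_mul g) x)

variable (M) in
/-- The kernel of `R ⊗[k] M → R ⊗[B] M` for the point `x`. -/
def N (x : B →ₐ[k] R) : Submodule R (R ⊗[k] ↥M) :=
  Submodule.span R (Set.range fun p : B × ↥M => x p.1 ⊗ₜ[k] p.2 - (1 : R) ⊗ₜ[k] (p.1 • p.2))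

end Groth.Agent.HopfSub
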