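import Mathlib
import Groth.Prelude.Def_SGA3
import Groth.Prelude.Def_HopfRep
import Groth.Agent.HopfSub.Basic
import Groth.Agent.HopfSub.Twist
import Groth.Agent.Comod.Basic

/-!
A commutative Hopf algebra over a field is faithfully flat over an injective Hopf algebra map.
-/

set_option autoImplicit false
set_option linter.style.haveILetI false
universe u
open scoped TensorProduct Coalgebra
open WithConv

noncomputable section

namespace Groth.Agent.HopfSub

variable {k : Type u} [Field k] {A : Type u} [CommRing A] [HopfAlgebra k A]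
  {B : Type u} [CommRing B] [HopfAlgebra k B] [Algebra B A] [IsScalarTower k B A]
  (ι : B →ₐc[k] A) (hι : ∀ b, algebraMap B A b = ι b)
  {M : Submodule B A} (hM : Stable (k := k) M)
  {R : Type u} [CommRing R] [Algebra k R]

include hι in
theorem T_mem_N (x : B →ₐ[k] R) (g : A →ₐ[k] R) (u : R ⊗[k] ↥M)
    (hu : u ∈ N M (toConv x * toConv (g.comp (ι : B →ₐ[k] A))).ofConv) : T hM g u ∈ N M x := by
  classical
  induction hu using Submodule.span_induction with
  | zero => simp
  | add a b _ _ ha hb => rw [map_add]; exact add_mem ha hb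
  | smul r a _ ha => rw [map_smul]; exact Submodule.smul_mem _ r ha
  | mem w hw =>
    obtain ⟨⟨b, m⟩, rfl⟩ := hw
    obtain ⟨S, hS⟩ := TensorProduct.exists_finset (rho hM m)
    let rb := ℛ k b
    have hbm : rho hM (b • m) = ∑ i ∈ rb.index, ∑ p ∈ S,
        (rb.left i • p.1) ⊗ₜ[k] (ι (rb.right i) * p.2) := by
      apply rT_injective (k := k) (M := M)
      rw [rho_spec, Submodule.coe_smul, Algebra.smul_def, Bialgebra.comul_mul, ← rho_spec hM m, hS, hι,
        show Coalgebra.comul (R := k) (ι b) = TensorProduct.map (ι : B →ₗ[k] A) (ι : B →ₗ[k] A)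
          (Coalgebra.comul b) from (CoalgHomClass.map_comp_comul_apply ι b).symm, ← rb.eq]
      simp only [map_sum, Finset.sum_mul, Finset.mul_sum, TensorProduct.map_tmul,
        LinearMap.rTensor_tmul, LinearMap.restrictScalars_apply, Submodule.subtype_apply,
        Submodule.coe_smul, Algebra.smul_def, hι, Algebra.TensorProduct.tmul_mul_tmul]
      rw [Finset.sum_comm]
      rfl
    have hmk : ∀ (c : B) (n : ↥M) (r : R), r ⊗ₜ[k] (c • n) - (r * x c) ⊗ₜ[k] n ∈ N M x := by
      intro c n r
      have h : x c ⊗ₜ[k] n - (1 : R) ⊗ₜ[k] (c • n) ∈ N M x := Submodule.subset_span ⟨(c, n), rfl⟩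
      have h2 := neg_mem (Submodule.smul_mem _ r h)
      rwa [smul_sub, neg_sub, TensorProduct.smul_tmul', TensorProduct.smul_tmul', smul_eq_mul,
        smul_eq_mul, _root_.mul_one] at h2
    have hT : ∀ (r : R) (n : ↥M), T hM g (r ⊗ₜ n) =
        r • TensorProduct.comm k ↥M R (g.toLinearMap.lTensor ↥M (rho hM n)) :=
      fun r n => LinearMap.liftBaseChange_tmul _ _ _ _
    have hy : (toConv x * toConv (g.comp (ι : B →ₐ[k] A))).ofConv b =
        ∑ i ∈ rb.index, x (rb.left i) * g (ι (rb.right i)) := by
      rw [AlgHom.convMul_apply, ← rb.eq, map_sum]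
      rfl
    rw [map_sub, hT, hT, one_smul, hbm, hS, hy]
    simp only [map_sum, LinearMap.lTensor_tmul, TensorProduct.comm_tmul, Finset.sum_smul,
      Finset.smul_sum, TensorProduct.smul_tmul', smul_eq_mul, AlgHom.toLinearMap_apply]
    rw [Finset.sum_comm, ← Finset.sum_sub_distrib]
    refine Submodule.sum_mem _ fun i _ => ?_
    rw [← Finset.sum_sub_distrib]
    refine Submodule.sum_mem _ fun p _ => ?_
    have := neg_mem (hmk (rb.left i) p.1 (g (ι (rb.right i) * p.2)))
    rw [neg_sub] at this
    convert this using 3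
    rw [map_mul]
    ring

include hι in
theorem map_TEquiv_N (x : B →ₐ[k] R) (g : WithConv (A →ₐ[k] R)) :
    (N M (toConv x * toConv (g.ofConv.comp (ι : B →ₐ[k] A))).ofConv).map
      (TEquiv hM g : R ⊗[k] ↥M →ₗ[R] R ⊗[k] ↥M) = N M x := by
  refine le_antisymm (Submodule.map_le_iff_le_comap.mpr fun u hu => T_mem_N ι hι hM x g.ofConv u hu) ?_
  intro v hv
  refine ⟨T hM (inv' g).ofConv v, T_mem_N ι hι hM _ _ _ ?_, T_T hM g (inv' g) (mul_inv' g) v⟩
  rw [toConv_ofConv, mul_assoc]
  have : toConv (g.ofConv.comp (ι : B →ₐ[k] A)) * toConv ((inv' g).ofConv.comp (ι : B →ₐ[k] A)) = 1 := by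
    apply WithConv.ext
    rw [← AlgHom.convMul_comp_bialgHom_distrib, mul_inv']
    exact AlgHom.ext fun b => by
      change algebraMap k R (Coalgebra.counit (ι b)) = algebraMap k R (Coalgebra.counit b)
      rw [CoalgHomClass.counit_comp_apply]
  rw [this, _root_.mul_one, ofConv_toConv]
  exact hv

/-- `(R ⊗[k] M) ⧸ N ≅ R ⊗[B] M`. -/
def quotEquiv [Algebra B R] [IsScalarTower k B R] (M : Submodule B A) :
    ((R ⊗[k] ↥M) ⧸ N M (IsScalarTower.toAlgHom k B R)) ≃ₗ[R] R ⊗[B] ↥M := by
  let π : R ⊗[k] ↥M →ₗ[R] R ⊗[B] ↥M :=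
    LinearMap.liftBaseChange R ((TensorProduct.mk B R ↥M 1).restrictScalars k)
  have hπ : ∀ (r : R) (m : ↥M), π (r ⊗ₜ m) = r ⊗ₜ m := fun r m => by
    change r • ((1 : R) ⊗ₜ[B] m) = _
    rw [TensorProduct.smul_tmul', smul_eq_mul, _root_.mul_one]
  have hN : N M (IsScalarTower.toAlgHom k B R) ≤ LinearMap.ker π := by
    refine Submodule.span_le.mpr ?_
    rintro _ ⟨⟨b, m⟩, rfl⟩
    simp only [SetLike.mem_coe, LinearMap.mem_ker, map_sub, hπ]
    rw [sub_eq_zero, IsScalarTower.toAlgHom_apply, Algebra.algebraMap_eq_smul_one,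
      TensorProduct.smul_tmul]
  let inv : R ⊗[B] ↥M →+ (R ⊗[k] ↥M) ⧸ N M (IsScalarTower.toAlgHom k B R) :=
    TensorProduct.liftAddHom
      (AddMonoidHom.mk' (fun r => AddMonoidHom.mk'
        (fun m => Submodule.Quotient.mk (r ⊗ₜ[k] m))
        (fun m m' => by rw [TensorProduct.tmul_add, Submodule.Quotient.mk_add]))
        (fun r r' => by
          ext m
          simp only [AddMonoidHom.mk'_apply, AddMonoidHom.add_apply, TensorProduct.add_tmul,
            Submodule.Quotient.mk_add]))
      (fun b r m => by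
        simp only [AddMonoidHom.mk'_apply]
        rw [Submodule.Quotient.eq]
        have h : IsScalarTower.toAlgHom k B R b ⊗ₜ[k] m - (1 : R) ⊗ₜ[k] (b • m) ∈
          N M (IsScalarTower.toAlgHom k B R) := Submodule.subset_span ⟨(b, m), rfl⟩
        have h2 := Submodule.smul_mem _ r h
        rw [smul_sub, TensorProduct.smul_tmul', TensorProduct.smul_tmul', smul_eq_mul, smul_eq_mul,
          _root_.mul_one, mul_comm, IsScalarTower.toAlgHom_apply, ← Algebra.smul_def] at h2
        exact h2)
  have h1 : ∀ q, inv ((N M (IsScalarTower.toAlgHom k B R)).liftQ π hN q) = q := by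
    intro q
    obtain ⟨u, rfl⟩ := Submodule.Quotient.mk_surjective _ q
    rw [Submodule.liftQ_apply]
    induction u with
    | zero => rw [map_zero, map_zero]; rfl
    | tmul r m => rw [hπ]; rfl
    | add a b ha hb => rw [map_add, map_add, ha, hb, Submodule.Quotient.mk_add]
  have h2 : ∀ w, ∃ q, (N M (IsScalarTower.toAlgHom k B R)).liftQ π hN q = w := by
    intro w
    induction w with
    | zero => exact ⟨0, map_zero _⟩
    | tmul r m => exact ⟨Submodule.Quotient.mk (r ⊗ₜ m), hπ r m⟩
    | add a b ha hb =>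
      obtain ⟨a', rfl⟩ := ha
      obtain ⟨b', rfl⟩ := hb
      exact ⟨a' + b', map_add _ _ _⟩
  exact LinearEquiv.ofBijective _ ⟨Function.LeftInverse.injective h1, h2⟩

theorem quotEquiv_mk [Algebra B R] [IsScalarTower k B R] (M : Submodule B A) (r : R) (m : ↥M) :
    quotEquiv (k := k) (R := R) M (Submodule.Quotient.mk (r ⊗ₜ m)) = r ⊗ₜ m := by
  change r • ((1 : R) ⊗ₜ[B] m) = _
  rw [TensorProduct.smul_tmul', smul_eq_mul, _root_.mul_one]

/-- The translated point `x * g` with `x` a field-valued point, `g` the universal point. -/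
def trPt (K : Type u) [Field K] [Algebra k K] (x : B →ₐ[k] K) : B →ₐ[k] K ⊗[k] A :=
  (toConv ((Algebra.TensorProduct.includeLeft : K →ₐ[k] K ⊗[k] A).comp x) *
    toConv ((Algebra.TensorProduct.includeRight : A →ₐ[k] K ⊗[k] A).comp (ι : B →ₐ[k] A))).ofConv

omit [Algebra B A] [IsScalarTower k B A] in
theorem trPt_injective (hinj : Function.Injective ι) (K : Type u) [Field K] [Algebra k K]
    (x : B →ₐ[k] K) : Function.Injective (trPt ι K x) := by
  let iL : K →ₐ[k] K ⊗[k] B := Algebra.TensorProduct.includeLeft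
  let iR : B →ₐ[k] K ⊗[k] B := Algebra.TensorProduct.includeRight
  let z : WithConv (B →ₐ[k] K ⊗[k] B) := toConv (iL.comp x)
  let z' := inv' z
  let E' : K ⊗[k] B →ₐ[k] K ⊗[k] B :=
    Algebra.TensorProduct.lift iL (z' * toConv iR).ofConv (fun _ _ => Commute.all _ _)
  let y' := (z * toConv iR).ofConv
  have hE : E'.comp y' = iR := by
    have e1 : E'.comp (iL.comp x) = iL.comp x := by
      rw [← AlgHom.comp_assoc]
      exact congrArg (fun f => AlgHom.comp f x)
        (Algebra.TensorProduct.lift_comp_includeLeft _ _ (fun _ _ => Commute.all _ _))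
    have e2 : E'.comp iR = (z' * toConv iR).ofConv :=
      Algebra.TensorProduct.lift_comp_includeRight _ _ (fun _ _ => Commute.all _ _)
    change E'.comp (z * toConv iR).ofConv = iR
    rw [AlgHom.comp_convMul_distrib, ofConv_toConv, ofConv_toConv, e1, e2, toConv_ofConv,
      ← mul_assoc, mul_inv', _root_.one_mul, ofConv_toConv]
  have hy' : Function.Injective y' := by
    have : Function.Injective iR :=
      Algebra.TensorProduct.includeRight_injective (algebraMap k K).injective
    rw [← hE] at this
    exact fun a b h => this (congrArg E' h)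
  let mp : K ⊗[k] B →ₐ[k] K ⊗[k] A := Algebra.TensorProduct.map (.id k K) (ι : B →ₐ[k] A)
  have hmp : trPt ι K x = mp.comp y' := by
    change _ = mp.comp (z * toConv iR).ofConv
    rw [AlgHom.comp_convMul_distrib, trPt, ofConv_toConv, ofConv_toConv, ← AlgHom.comp_assoc,
      Algebra.TensorProduct.map_comp_includeLeft, Algebra.TensorProduct.map_comp_includeRight,
      AlgHom.comp_id]
  rw [hmp]
  exact (map_injective _ _ (fun _ _ h => h) hinj).comp hy'

/-- For an injective algebra, a free base change fixes the fibre dimension at minimal primes. -/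
theorem finrank_fibre_of_minimal [Algebra B R] [FaithfulSMul B R] {M' : Type u} [AddCommGroup M']
    [Module B M'] {d : ℕ} (b : Module.Basis (Fin d) R (R ⊗[B] M')) (q : Ideal B) [q.IsPrime]
    (hq : q ∈ minimalPrimes B) :
    Module.finrank q.ResidueField (q.ResidueField ⊗[B] M') = d := by
  obtain ⟨Q, hQ, hQq⟩ := Ideal.exists_comap_eq_of_mem_minimalPrimes_of_injective
    (FaithfulSMul.algebraMap_injective B R) q hq
  let L := Q.ResidueField
  letI : Algebra q.ResidueField L :=
    (Ideal.ResidueField.map q Q (algebraMap B R) hQq.symm).toAlgebra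
  haveI : IsScalarTower B q.ResidueField L := IsScalarTower.of_algebraMap_eq fun b => by
    rw [RingHom.algebraMap_toAlgebra, Ideal.ResidueField.map_algebraMap,
      ← IsScalarTower.algebraMap_apply]
  let eR : L ⊗[R] (R ⊗[B] M') ≃ₗ[L] L ⊗[B] M' :=
    TensorProduct.AlgebraTensorModule.cancelBaseChange B R L L M'
  have h1 : Module.finrank L (L ⊗[B] M') = d := by
    rw [← eR.finrank_eq, Module.finrank_eq_card_basis (b.baseChange L), Fintype.card_fin]
  let eq' : L ⊗[q.ResidueField] (q.ResidueField ⊗[B] M') ≃ₗ[L] L ⊗[B] M' :=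
    TensorProduct.AlgebraTensorModule.cancelBaseChange B q.ResidueField L L M'
  exact Module.finrank_baseChange.symm.trans (eq'.finrank_eq.trans h1)

/-- A finite module over a local ring which becomes free over an injective algebra, of rank the fibre
dimension, is free. -/
theorem free_of_free_baseChange {C : Type u} [CommRing C] [IsLocalRing C] {P : Type u}
    [AddCommGroup P] [Module C P] [Module.Finite C P] {R' : Type u} [CommRing R'] [Algebra C R']
    (hC : Function.Injective (algebraMap C R')) {n : ℕ} (b : Module.Basis (Fin n) R' (R' ⊗[C] P))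
    (hn : Module.finrank (IsLocalRing.ResidueField C) (IsLocalRing.ResidueField C ⊗[C] P) = n) :
    Module.Free C P := by
  let κ := IsLocalRing.ResidueField C
  let bK : Module.Basis (Fin n) κ (κ ⊗[C] P) := Module.finBasisOfFinrankEq κ _ hn
  have hsurj : ∀ w : κ ⊗[C] P, ∃ m : P, (1 : κ) ⊗ₜ[C] m = w := fun w => by
    induction w with
    | zero => exact ⟨0, TensorProduct.tmul_zero _ _⟩
    | tmul c m =>
      obtain ⟨a, rfl⟩ := IsLocalRing.residue_surjective c
      refine ⟨a • m, ?_⟩
      rw [← TensorProduct.smul_tmul, Algebra.smul_def, _root_.mul_one]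
      rfl
    | add x y hx hy =>
      obtain ⟨mx, rfl⟩ := hx
      obtain ⟨my, rfl⟩ := hy
      exact ⟨mx + my, TensorProduct.tmul_add _ _ _⟩
  choose v hv using fun i => hsurj (bK i)
  have hspan : Submodule.span C (Set.range v) = ⊤ :=
    IsLocalRing.span_eq_top_of_tmul_eq_basis v bK hv
  let φ : (Fin n → C) →ₗ[C] P := Fintype.linearCombination C v
  have hφ : Function.Surjective φ := LinearMap.range_eq_top.mp
    ((Fintype.range_linearCombination C v).trans hspan)
  let φ' : (Fin n → R') →ₗ[R'] R' ⊗[C] P := Fintype.linearCombination R' fun i => (1 : R') ⊗ₜ[C] v i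
  have hcomp : ∀ c : Fin n → C, φ' (fun i => algebraMap C R' (c i)) = (1 : R') ⊗ₜ[C] φ c := fun c => by
    simp only [φ, φ', Fintype.linearCombination_apply, TensorProduct.tmul_sum, algebraMap_smul,
      TensorProduct.tmul_smul]
  have hφ' : Function.Surjective φ' := fun w => by
    induction w with
    | zero => exact ⟨0, map_zero _⟩
    | tmul r m =>
      obtain ⟨c, rfl⟩ := hφ m
      exact ⟨r • fun i => algebraMap C R' (c i), by
        rw [map_smul, hcomp, TensorProduct.smul_tmul', smul_eq_mul, _root_.mul_one]⟩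
    | add x y hx hy =>
      obtain ⟨cx, rfl⟩ := hx
      obtain ⟨cy, rfl⟩ := hy
      exact ⟨cx + cy, map_add _ _ _⟩
  have hinj : Function.Injective φ' := by
    have := OrzechProperty.injective_of_surjective_endomorphism
      (b.equivFun.toLinearMap ∘ₗ φ') (b.equivFun.surjective.comp hφ')
    exact fun a c h => this (congrArg b.equivFun h)
  have hker : Function.Injective φ := by
    refine (injective_iff_map_eq_zero φ).mpr fun c hc => ?_
    have h0 : φ' (fun i => algebraMap C R' (c i)) = φ' 0 := by
      rw [hcomp, hc, TensorProduct.tmul_zero, map_zero]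
    have := hinj h0
    ext i
    exact (map_eq_zero_iff _ hC).mp (congrFun this i)
  exact Module.Free.of_equiv (LinearEquiv.ofBijective φ ⟨hker, hφ⟩)

/-- Localised form. -/
theorem flat_localized (p : Ideal B) [p.IsPrime] [Algebra B R] [FaithfulSMul B R] {M' : Type u}
    [AddCommGroup M'] [Module B M'] [Module.Finite B M'] {n : ℕ}
    (b : Module.Basis (Fin n) R (R ⊗[B] M'))
    (hn : Module.finrank p.ResidueField (p.ResidueField ⊗[B] M') = n) :
    Module.Flat B (LocalizedModule p.primeCompl M') := by
  let Bp := Localization.AtPrime p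
  let Mp := LocalizedModule p.primeCompl M'
  let mk : M' →ₗ[B] Mp := LocalizedModule.mkLinearMap p.primeCompl M'
  haveI : IsLocalizedModule p.primeCompl mk := localizedModuleIsLocalizedModule p.primeCompl
  haveI : Module.Finite Bp Mp := Module.Finite.of_isLocalizedModule p.primeCompl mk
  let R' := Localization (Algebra.algebraMapSubmonoid R p.primeCompl)
  have hBC : IsBaseChange Bp mk := IsLocalizedModule.isBaseChange p.primeCompl Bp mk
  have hinj : Function.Injective (algebraMap Bp R') :=
    localizationAlgebra_injective (M := p.primeCompl) (S := R) Bp R'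
      (FaithfulSMul.algebraMap_injective B R)
  let e : R' ⊗[Bp] Mp ≃ₗ[R'] R' ⊗[B] M' :=
    TensorProduct.AlgebraTensorModule.congr (LinearEquiv.refl R' R') hBC.equiv.symm ≪≫ₗ
      TensorProduct.AlgebraTensorModule.cancelBaseChange B Bp R' R' M'
  let b' : Module.Basis (Fin n) R' (R' ⊗[Bp] Mp) :=
    (b.baseChange R').map
      ((TensorProduct.AlgebraTensorModule.cancelBaseChange B R R' R' M').trans e.symm)
  let K := p.ResidueField
  let eK : K ⊗[Bp] Mp ≃ₗ[K] K ⊗[B] M' :=
    TensorProduct.AlgebraTensorModule.congr (LinearEquiv.refl K K) hBC.equiv.symm ≪≫ₗ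
      TensorProduct.AlgebraTensorModule.cancelBaseChange B Bp K K M'
  haveI : Module.Free Bp Mp := free_of_free_baseChange hinj b' (eK.finrank_eq.trans hn)
  exact Module.Flat.trans B Bp Mp

end Groth.Agent.HopfSub
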