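import Mathlib
import Groth.Prelude.Def_SGA3
import Groth.Prelude.Def_HopfRep
import Groth.Agent.HopfSub.Basic
import Groth.Agent.HopfSub.Twist
import Groth.Agent.HopfSub.Flat
import Groth.Agent.Comod.Basic

/-!
Faithful flatness of a commutative Hopf algebra over an injective Hopf algebra map.
-/

set_option autoImplicit false
set_option linter.style.haveILetI false
universe u
open scoped TensorProduct Coalgebra
open WithConv

noncomputable section

namespace Groth.Agent.HopfSub

variable {k : Type u} [Field k] {A : Type u} [CommRing A] [HopfAlgebra k A]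
  {B : Type u} [CommRing B] [HopfAlgebra k B] [Algebra B A] [IsScalarTower k B A]
  (ι : B →ₐc[k] A) (hι : ∀ b, algebraMap B A b = ι b)

include hι in
theorem exists_stable (S : Finset A) :
    ∃ M : Submodule B A, M.FG ∧ (S : Set A) ⊆ M ∧ (1 : A) ∈ M ∧ Stable (k := k) M := by
  classical
  obtain ⟨U, hU, hSU, hUs⟩ := Groth.Agent.Comod.exists_finite_subcomod (k := k) (A := A)
    (V := A) (insert (1 : A) S)
  rw [Finset.coe_insert] at hSU
  let M := Submodule.span B (U : Set A)
  have hUM : ∀ u ∈ U, u ∈ M := fun u hu => Submodule.subset_span hu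
  refine ⟨M, ?_, fun a ha => hUM a (hSU (Set.mem_insert_of_mem _ ha)),
    hUM 1 (hSU (Set.mem_insert _ _)), ?_⟩
  · obtain ⟨t, ht⟩ := (Module.Finite.iff_fg.mp hU : U.FG)
    refine ⟨t, ?_⟩
    change _ = Submodule.span B (U : Set A)
    rw [← ht, Submodule.span_span_of_tower]
  intro m hm
  induction hm using Submodule.span_induction with
  | zero => rw [map_zero]; exact zero_mem _
  | add a b _ _ ha hb => rw [map_add]; exact add_mem ha hb
  | mem u hu =>
    obtain ⟨w, hw⟩ := hUs u hu
    let j : ↥U →ₗ[k] ↥M :=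
      { toFun := fun v => ⟨v, hUM v v.2⟩
        map_add' := fun _ _ => rfl
        map_smul' := fun _ _ => rfl }
    refine ⟨j.rTensor A w, ?_⟩
    rw [← LinearMap.comp_apply, ← LinearMap.rTensor_comp]
    exact hw
  | smul b a _ ha =>
    obtain ⟨w, hw⟩ := ha
    rw [Algebra.smul_def, hι, Bialgebra.comul_mul, ← hw,
      show Coalgebra.comul (R := k) (ι b) = TensorProduct.map (ι : B →ₗ[k] A) (ι : B →ₗ[k] A)
        (Coalgebra.comul b) from (CoalgHomClass.map_comp_comul_apply ι b).symm]
    generalize Coalgebra.comul (R := k) b = d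
    clear hw
    induction d with
    | zero => simp
    | add x y hx hy => rw [map_add, add_mul]; exact add_mem hx hy
    | tmul l r =>
      induction w with
      | zero => simp
      | add x y hx hy => rw [map_add, mul_add]; exact add_mem hx hy
      | tmul n c =>
        refine ⟨(l • n) ⊗ₜ (ι r * c), ?_⟩
        simp only [LinearMap.rTensor_tmul, LinearMap.restrictScalars_apply, Submodule.subtype_apply,
          Submodule.coe_smul, Algebra.smul_def, hι, TensorProduct.map_tmul,
          Algebra.TensorProduct.tmul_mul_tmul]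
        rfl

variable {M : Submodule B A} (hM : Stable (k := k) M)
  (K : Type u) [Field K] [Algebra k K] [Algebra B K] [IsScalarTower k B K]

/-- The quotient equivalence between the base changes along `x * g` and `x`. -/
def twist :
    ((K ⊗[k] A) ⊗[k] ↥M ⧸ N M (trPt ι K (IsScalarTower.toAlgHom k B K))) ≃ₗ[K ⊗[k] A]
      ((K ⊗[k] A) ⊗[k] ↥M ⧸ N M (IsScalarTower.toAlgHom k B (K ⊗[k] A))) :=
  Submodule.Quotient.equiv _ _
    (TEquiv hM (toConv (Algebra.TensorProduct.includeRight : A →ₐ[k] K ⊗[k] A)))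
    (by
      have h := map_TEquiv_N ι hι hM (IsScalarTower.toAlgHom k B (K ⊗[k] A))
        (toConv (Algebra.TensorProduct.includeRight : A →ₐ[k] K ⊗[k] A))
      refine Eq.trans ?_ h
      congr 2)

include hι hM in
theorem basis_trPt [Module.Finite B ↥M] :
    Nonempty (Module.Basis (Fin (Module.finrank K (K ⊗[B] ↥M))) (K ⊗[k] A)
      (((K ⊗[k] A) ⊗[k] ↥M) ⧸ N M (trPt ι K (IsScalarTower.toAlgHom k B K)))) := by
  let d := Module.finrank K (K ⊗[B] ↥M)
  let bK : Module.Basis (Fin d) K (K ⊗[B] ↥M) := Module.finBasis _ _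
  let eR : (K ⊗[k] A) ⊗[K] (K ⊗[B] ↥M) ≃ₗ[K ⊗[k] A] (K ⊗[k] A) ⊗[B] ↥M :=
    TensorProduct.AlgebraTensorModule.cancelBaseChange B K (K ⊗[k] A) (K ⊗[k] A) ↥M
  exact ⟨((bK.baseChange (K ⊗[k] A)).map eR).map
    ((quotEquiv (k := k) (R := K ⊗[k] A) M).symm.trans (twist ι hι hM K).symm)⟩

section Generic

variable {R : Type u} [CommRing R] [Algebra k R] (y : B →ₐ[k] R)

theorem finrank_fibre_of_basis (hy : Function.Injective y) {d : ℕ}
    (b : Module.Basis (Fin d) R ((R ⊗[k] ↥M) ⧸ N M y)) (q : Ideal B) [q.IsPrime]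
    (hq : q ∈ minimalPrimes B) :
    Module.finrank q.ResidueField (q.ResidueField ⊗[B] ↥M) = d := by
  letI : Algebra B R := y.toAlgebra
  haveI : IsScalarTower k B R := IsScalarTower.of_algebraMap_eq fun c => (y.commutes c).symm
  haveI : FaithfulSMul B R := (faithfulSMul_iff_algebraMap_injective _ _).mpr hy
  exact finrank_fibre_of_minimal (b.map ((Submodule.quotEquivOfEq _ _
    (congrArg (N M) (AlgHom.ext fun c => rfl))).trans (quotEquiv (k := k) (R := R) M))) q hq

theorem flat_localized_of_basis (hy : Function.Injective y) [Module.Finite B ↥M] {d : ℕ}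
    (b : Module.Basis (Fin d) R ((R ⊗[k] ↥M) ⧸ N M y)) (p : Ideal B) [p.IsPrime]
    (hp : Module.finrank p.ResidueField (p.ResidueField ⊗[B] ↥M) = d) :
    Module.Flat B (LocalizedModule p.primeCompl ↥M) := by
  letI : Algebra B R := y.toAlgebra
  haveI : IsScalarTower k B R := IsScalarTower.of_algebraMap_eq fun c => (y.commutes c).symm
  haveI : FaithfulSMul B R := (faithfulSMul_iff_algebraMap_injective _ _).mpr hy
  exact flat_localized p (b.map ((Submodule.quotEquivOfEq _ _
    (congrArg (N M) (AlgHom.ext fun c => rfl))).trans (quotEquiv (k := k) (R := R) M))) hp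

theorem one_tmul_not_mem [Nontrivial A] [Module.Flat B ↥M] (hy : Function.Injective y)
    (h1 : (1 : A) ∈ M) : (1 : R) ⊗ₜ[k] (⟨1, h1⟩ : ↥M) ∉ N M y := by
  intro hmem
  letI : Algebra B R := y.toAlgebra
  haveI : IsScalarTower k B R := IsScalarTower.of_algebraMap_eq fun c => (y.commutes c).symm
  have hy' : (1 : R) ⊗ₜ[k] (⟨1, h1⟩ : ↥M) ∈ N M (IsScalarTower.toAlgHom k B R) :=
    (congrArg (N M) (AlgHom.ext fun c => rfl : y = IsScalarTower.toAlgHom k B R)) ▸ hmem
  rw [← Submodule.Quotient.mk_eq_zero] at hy'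
  have h2 : (1 : R) ⊗ₜ[B] (⟨1, h1⟩ : ↥M) = 0 := by
    rw [← quotEquiv_mk (k := k), hy', map_zero]
  have hinj' : Function.Injective ((Algebra.linearMap B R).rTensor ↥M) :=
    Module.Flat.rTensor_preserves_injective_linearMap _ hy
  have h3 : (1 : B) ⊗ₜ[B] (⟨1, h1⟩ : ↥M) = 0 := hinj' (by
    rw [LinearMap.rTensor_tmul, map_zero, Algebra.linearMap_apply, map_one]; exact h2)
  have h4 := congrArg (TensorProduct.lid B ↥M) h3
  rw [TensorProduct.lid_tmul, one_smul, map_zero] at h4
  exact one_ne_zero (congrArg Subtype.val h4)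

end Generic

include hι hM in
theorem flat_stable (hinj : Function.Injective ι) [Module.Finite B ↥M] : Module.Flat B ↥M := by
  haveI : Nontrivial B := RingHom.domain_nontrivial (Bialgebra.counitAlgHom k B).toRingHom
  obtain ⟨q, hq⟩ := Ideal.nonempty_minimalPrimes (I := (⊥ : Ideal B)) bot_ne_top
  haveI : q.IsPrime := hq.1.1
  refine Module.flat_of_localized_maximal _ fun P _ => ?_
  obtain ⟨b⟩ := basis_trPt ι hι hM P.ResidueField
  exact flat_localized_of_basis _
    (trPt_injective ι hinj P.ResidueField (IsScalarTower.toAlgHom k B P.ResidueField)) b P rfl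

include hι hM in
theorem one_tmul_ne_zero (hinj : Function.Injective ι) [Module.Finite B ↥M] (h1 : (1 : A) ∈ M) :
    (1 : K) ⊗ₜ[B] (⟨1, h1⟩ : ↥M) ≠ 0 := by
  intro h0
  let R := K ⊗[k] A
  let g : WithConv (A →ₐ[k] R) := toConv Algebra.TensorProduct.includeRight
  let u : R ⊗[k] ↥M := (1 : R) ⊗ₜ ⟨1, h1⟩
  have hz : u ∈ N M (IsScalarTower.toAlgHom k B R) := by
    rw [← Submodule.Quotient.mk_eq_zero]
    apply (quotEquiv (k := k) (R := R) M).injective
    rw [map_zero, quotEquiv_mk]
    have := congrArg (fun w => (TensorProduct.AlgebraTensorModule.cancelBaseChange B K R R ↥M)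
      ((1 : R) ⊗ₜ[K] w)) h0
    simpa using this
  have hTu : T hM g.ofConv u = u := by
    have hr : rho hM ⟨1, h1⟩ = (⟨1, h1⟩ : ↥M) ⊗ₜ[k] (1 : A) := by
      apply rT_injective (k := k) (M := M)
      rw [rho_spec, Bialgebra.comul_one]
      rfl
    rw [T, LinearMap.liftBaseChange_tmul, one_smul]
    simp only [LinearMap.comp_apply, LinearEquiv.coe_coe, hr, LinearMap.lTensor_tmul,
      AlgHom.toLinearMap_apply, map_one, TensorProduct.comm_tmul]
    rfl
  rw [← map_TEquiv_N ι hι hM (IsScalarTower.toAlgHom k B R) g] at hz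
  obtain ⟨u', hu', hu'u⟩ := hz
  have huu : u' = u := (TEquiv hM g).injective (hu'u.trans hTu.symm)
  rw [huu] at hu'
  haveI : Nontrivial A := RingHom.domain_nontrivial (Bialgebra.counitAlgHom k A).toRingHom
  haveI : Module.Flat B ↥M := flat_stable ι hι hM hinj
  exact one_tmul_not_mem _ (trPt_injective ι hinj K (IsScalarTower.toAlgHom k B K)) h1
    (by
      have e : IsScalarTower.toAlgHom k B R =
          (Algebra.TensorProduct.includeLeft : K →ₐ[k] R).comp (IsScalarTower.toAlgHom k B K) :=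
        AlgHom.ext fun _ => rfl
      rw [e] at hu'
      exact hu')

include hι in
/-- Main theorem. -/
theorem faithfullyFlat (hinj : Function.Injective ι) : Module.FaithfullyFlat B A := by
  classical
  haveI : Module.Flat B A := by
    refine Module.Flat.of_forall_isTrivialRelation fun {l} {f} {x} hfx => ?_
    obtain ⟨M, hfg, hxM, -, hM⟩ := exists_stable ι hι (Finset.univ.image x)
    haveI : Module.Finite B ↥M := Module.Finite.iff_fg.mpr hfg
    haveI := flat_stable ι hι hM hinj
    let x' : Fin l → ↥M := fun i => ⟨x i, hxM (by simp)⟩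
    have hfx' : ∑ i, f i • x' i = 0 := Subtype.ext (by simpa [x'] using hfx)
    obtain ⟨n, a, y, hy1, hy2⟩ := Module.Flat.isTrivialRelation_of_sum_smul_eq_zero hfx'
    exact ⟨n, a, fun j => (y j : A), fun i => by
      have := congrArg Subtype.val (hy1 i)
      simpa [x'] using this, hy2⟩
  refine { submodule_ne_top := fun P hP htop => ?_ }
  have h1 : (1 : A) ∈ P • (⊤ : Submodule B A) := by rw [htop]; exact Submodule.mem_top
  have key : ∀ a ∈ P • (⊤ : Submodule B A), ∃ S : Finset A, ∀ (M : Submodule B A),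
      (S : Set A) ⊆ M → a ∈ P • M := by
    intro a ha
    refine Submodule.smul_induction_on ha
      (fun b hb n _ => ⟨{n}, fun M hM => Submodule.smul_mem_smul hb (hM (by simp))⟩) fun c d hc hd => ?_
    · obtain ⟨S, hS⟩ := hc
      obtain ⟨T, hT⟩ := hd
      exact ⟨S ∪ T, fun M hM => add_mem (hS M fun z hz => hM (by simp [show z ∈ S from hz]))
        (hT M fun z hz => hM (by simp [show z ∈ T from hz]))⟩
  obtain ⟨S, hS⟩ := key 1 h1
  obtain ⟨M, hfg, hSM, h1M, hM⟩ := exists_stable ι hι S
  haveI : Module.Finite B ↥M := Module.Finite.iff_fg.mpr hfg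
  have h2 : (⟨1, h1M⟩ : ↥M) ∈ P • (⊤ : Submodule B ↥M) := by
    have hh := hS M hSM
    rw [← Submodule.map_subtype_top M, ← Submodule.map_smul''] at hh
    obtain ⟨w, hw, hw1⟩ := hh
    rwa [show (⟨1, h1M⟩ : ↥M) = w from Subtype.ext hw1.symm]
  apply one_tmul_ne_zero ι hι hM P.ResidueField hinj h1M
  revert h2
  generalize (⟨1, h1M⟩ : ↥M) = w
  intro hw
  refine Submodule.smul_induction_on hw (fun b hb n _ => ?_) fun c d hc hd => ?_
  · rw [← TensorProduct.smul_tmul, Algebra.smul_def, _root_.mul_one,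
      Ideal.algebraMap_residueField_eq_zero.mpr hb, TensorProduct.zero_tmul]
  · rw [TensorProduct.tmul_add, hc, hd, add_zero]

end Groth.Agent.HopfSub
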